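import Groth.Prelude.Def_W4stkschemesremainderFib
import Mathlib.AlgebraicGeometry.Artinian
import Mathlib.AlgebraicGeometry.Morphisms.Flat
import Mathlib.AlgebraicGeometry.Pullbacks
import Mathlib.RingTheory.Finiteness.Descent
import Mathlib.LinearAlgebra.Dimension.Constructions

/-!
# Bounded degree schemes over fields: invariance, base change, descent
-/

set_option autoImplicit false
set_option linter.style.haveILetI false
set_option backward.isDefEq.respectTransparency false

universe u

open CategoryTheory CategoryTheory.Limits AlgebraicGeometry TensorProduct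

namespace BddFibLib

variable {K : Type u} [Field K] {T : Scheme.{u}} {p : T ⟶ Spec (.of K)} {n : ℕ}

/-- `FiniteOfDegLE` can be computed in any affine model. -/
theorem iff_of_iso (A : Type u) [CommRing A] [Algebra K A] (e : T ≅ Spec (.of A))
    (he : e.hom ≫ Spec.map (CommRingCat.ofHom (algebraMap K A)) = p) :
    BddFib.FiniteOfDegLE (.of K) p n ↔ Module.Finite K A ∧ Module.finrank K A ≤ n := by
  letI : Algebra K Γ(T, ⊤) := BddFib.secAlgebra (.of K) p
  let φ : A →+* Γ(T, ⊤) := ((Scheme.ΓSpecIso (.of A)).inv ≫ e.hom.appTop).hom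
  have hφb : Function.Bijective φ := ConcreteCategory.bijective_of_isIso _
  have hφ : ∀ c : K, φ (algebraMap K A c) = algebraMap K Γ(T, ⊤) c := by
    intro c
    have h1 : CommRingCat.ofHom (algebraMap K A) ≫ (Scheme.ΓSpecIso (.of A)).inv ≫ e.hom.appTop
        = (Scheme.ΓSpecIso (.of K)).inv ≫ p.appTop := by
      rw [Scheme.ΓSpecIso_inv_naturality_assoc, ← he, Scheme.Hom.comp_appTop]
    exact DFunLike.congr_fun (congrArg CommRingCat.Hom.hom h1) c
  let ψ : A ≃ₐ[K] Γ(T, ⊤) :=
    AlgEquiv.ofRingEquiv (f := RingEquiv.ofBijective φ hφb) hφ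
  have hT : IsAffine T := .of_isIso e.hom
  constructor
  · rintro ⟨-, h2, h3⟩
    exact ⟨.equiv ψ.symm.toLinearEquiv, ψ.toLinearEquiv.finrank_eq.trans_le h3⟩
  · rintro ⟨h2, h3⟩
    exact ⟨hT, .equiv ψ.toLinearEquiv, ψ.toLinearEquiv.finrank_eq.symm.trans_le h3⟩

/-- An affine scheme over a field is `Spec` of an algebra. -/
theorem exists_model [IsAffine T] (p : T ⟶ Spec (.of K)) :
    ∃ (A : Type u) (_ : CommRing A) (_ : Algebra K A) (e : T ≅ Spec (.of A)),
      e.hom ≫ Spec.map (CommRingCat.ofHom (algebraMap K A)) = p := by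
  letI : Algebra K Γ(T, ⊤) := BddFib.secAlgebra (.of K) p
  refine ⟨Γ(T, ⊤), inferInstance, inferInstance, T.isoSpec, ?_⟩
  change T.isoSpec.hom ≫ Spec.map ((Scheme.ΓSpecIso (.of K)).inv ≫ p.appTop) = p
  rw [Spec.map_comp, Scheme.isoSpec_hom_naturality_assoc, Scheme.isoSpec_Spec_hom, ← Spec.map_comp,
    Iso.inv_hom_id, Spec.map_id, Category.comp_id]

theorem exists_model_of (h : BddFib.FiniteOfDegLE (.of K) p n) :
    ∃ (A : Type u) (_ : CommRing A) (_ : Algebra K A) (e : T ≅ Spec (.of A)),
      e.hom ≫ Spec.map (CommRingCat.ofHom (algebraMap K A)) = p ∧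
        Module.Finite K A ∧ Module.finrank K A ≤ n := by
  have := h.1
  obtain ⟨A, _, _, e, he⟩ := exists_model p
  exact ⟨A, _, _, e, he, (iff_of_iso A e he).1 h⟩

theorem congr_iso {T' : Scheme.{u}} {p' : T' ⟶ Spec (.of K)} (h : BddFib.FiniteOfDegLE (.of K) p n)
    (e : T' ≅ T) (he : e.hom ≫ p = p') : BddFib.FiniteOfDegLE (.of K) p' n := by
  obtain ⟨A, _, _, e', he', hA⟩ := exists_model_of h
  exact (iff_of_iso A (e ≪≫ e') (by rw [Iso.trans_hom, Category.assoc, he', he])).2 hA

theorem mono {m : ℕ} (h : BddFib.FiniteOfDegLE (.of K) p n) (hnm : n ≤ m) :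
    BddFib.FiniteOfDegLE (.of K) p m :=
  ⟨h.1, h.2.1, h.2.2.trans hnm⟩

/-- A scheme finite over a field has finitely many points and the discrete topology. -/
theorem finite_discrete (h : BddFib.FiniteOfDegLE (.of K) p n) :
    Finite T ∧ DiscreteTopology T := by
  obtain ⟨A, _, _, e, -, hfin, -⟩ := exists_model_of h
  have : IsArtinianRing A := IsArtinianRing.of_finite K A
  have : DiscreteTopology (Spec (CommRingCat.of A)) :=
    inferInstanceAs (DiscreteTopology (PrimeSpectrum A))
  have : Finite (Spec (CommRingCat.of A)) := inferInstanceAs (Finite (PrimeSpectrum A))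
  exact ⟨.of_equiv _ e.hom.homeomorph.symm.toEquiv, e.hom.homeomorph.symm.discreteTopology⟩

variable {L : Type u} [Field L] [Algebra K L] {T' : Scheme.{u}} {p' : T' ⟶ Spec (.of L)}
  {q : T' ⟶ T}

/-- The model of a base change of an affine scheme over a field. -/
theorem exists_baseChange_model (sq : IsPullback q p' p (Spec.map (CommRingCat.ofHom (algebraMap K L))))
    (A : Type u) [CommRing A] [Algebra K A] (e : T ≅ Spec (.of A))
    (he : e.hom ≫ Spec.map (CommRingCat.ofHom (algebraMap K A)) = p) :
    ∃ e' : T' ≅ Spec (.of (L ⊗[K] A)),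
      e'.hom ≫ Spec.map (CommRingCat.ofHom (algebraMap L (L ⊗[K] A))) = p' := by
  have sq' : IsPullback p' (q ≫ e.hom) (Spec.map (CommRingCat.ofHom (algebraMap K L)))
      (Spec.map (CommRingCat.ofHom (algebraMap K A))) :=
    IsPullback.of_iso sq.flip (Iso.refl _) (Iso.refl _) e (Iso.refl _) (by simp) (by simp)
      (by simp) (by simp [he])
  refine ⟨sq'.isoPullback ≪≫ pullbackSpecIso K L A, ?_⟩
  rw [Iso.trans_hom, Category.assoc, pullbackSpecIso_hom_fst', IsPullback.isoPullback_hom_fst]

/-- Base change along a field extension. -/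
theorem baseChange (sq : IsPullback q p' p (Spec.map (CommRingCat.ofHom (algebraMap K L))))
    (h : BddFib.FiniteOfDegLE (.of K) p n) : BddFib.FiniteOfDegLE (.of L) p' n := by
  obtain ⟨A, _, _, e, he, hfin, hle⟩ := exists_model_of h
  obtain ⟨e', he'⟩ := exists_baseChange_model sq A e he
  exact (iff_of_iso _ e' he').2 ⟨inferInstance, Module.finrank_baseChange.trans_le hle⟩

/-- A flat surjective morphism from a finite discrete scheme: the target is finite discrete. -/
theorem finite_discrete_of_flat_surjective {S S' : Scheme.{u}} (r : S' ⟶ S) [Flat r] [Surjective r]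
    [Finite S'] [DiscreteTopology S'] : Finite S ∧ DiscreteTopology S := by
  have hS : Finite S := .of_surjective _ r.surjective
  have : QuasiCompact r := ⟨fun U _ _ ↦ (Set.toFinite _).isCompact⟩
  refine ⟨hS, discreteTopology_iff_forall_isOpen.2 fun s ↦ ?_⟩
  exact (Flat.isQuotientMap_of_surjective r).isOpen_preimage.1 (isOpen_discrete _)

/-- Descent along a field extension. -/
theorem descend (sq : IsPullback q p' p (Spec.map (CommRingCat.ofHom (algebraMap K L))))
    (h : BddFib.FiniteOfDegLE (.of L) p' n) : BddFib.FiniteOfDegLE (.of K) p n := by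
  have hff : (CommRingCat.ofHom (algebraMap K L)).hom.FaithfullyFlat :=
    RingHom.faithfullyFlat_algebraMap_iff.2 inferInstance
  obtain ⟨_, _⟩ := (flat_and_surjective_SpecMap_iff _).2 hff
  have : Flat q := MorphismProperty.of_isPullback sq.flip ‹Flat _›
  have : Surjective q := MorphismProperty.of_isPullback sq.flip ‹Surjective _›
  obtain ⟨_, _⟩ := finite_discrete h
  obtain ⟨_, _⟩ := finite_discrete_of_flat_surjective q
  obtain ⟨A, _, _, e, he⟩ := exists_model p
  obtain ⟨e', he'⟩ := exists_baseChange_model sq A e he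
  obtain ⟨hfin, hle⟩ := (iff_of_iso _ e' he').1 h
  exact (iff_of_iso A e he).2
    ⟨.of_finite_tensorProduct_of_faithfullyFlat L, Module.finrank_baseChange.symm.trans_le hle⟩

end BddFibLib
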