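import Groth.Agent.BddFibLib.Ops
import Mathlib.RingTheory.Artinian.Ring
import Mathlib.LinearAlgebra.TensorProduct.Quotient

/-!
# Degree bound for composites
-/

set_option autoImplicit false
set_option backward.isDefEq.respectTransparency false
set_option linter.style.haveILetI false

universe u

open CategoryTheory CategoryTheory.Limits AlgebraicGeometry TensorProduct

namespace BddFibLib

theorem exists_spanning {L V : Type*} [Field L] [AddCommGroup V] [Module L V] [Module.Finite L V]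
    {n : ℕ} (h : Module.finrank L V ≤ n) :
    ∃ v : Fin n → V, ∀ w : V, ∃ c : Fin n → L, ∑ i, c i • v i = w := by
  let b := Module.finBasis L V
  let v : Fin n → V := fun i => if hi : (i : ℕ) < Module.finrank L V then b ⟨i, hi⟩ else 0
  refine ⟨v, fun w => (Submodule.mem_span_range_iff_exists_fun L).1 ?_⟩
  refine Submodule.span_le.2 ?_ (b.mem_span w)
  rintro _ ⟨j, rfl⟩
  exact Submodule.subset_span ⟨⟨j, lt_of_lt_of_le j.2 h⟩, by simp [v]⟩

theorem finrank_le_mul {K B A : Type u} [Field K] [CommRing B] [CommRing A] [Algebra K B]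
    [Algebra B A] [Algebra K A] [IsScalarTower K B A] [Module.Finite K B] (n : ℕ)
    (h : ∀ P : Ideal B, P.IsPrime → Module.Finite (B ⧸ P) ((B ⧸ P) ⊗[B] A) ∧
      Module.finrank (B ⧸ P) ((B ⧸ P) ⊗[B] A) ≤ n) :
    Module.Finite K A ∧ Module.finrank K A ≤ n * Module.finrank K B := by
  classical
  have : IsArtinianRing B := IsArtinianRing.of_finite K B
  have := Fintype.ofFinite (PrimeSpectrum B)
  have hlift : ∀ P : PrimeSpectrum B, ∃ a : Fin n → A, ∀ x : A,
      ∃ c : Fin n → B, (1 : B ⧸ P.asIdeal) ⊗ₜ[B] (∑ i, c i • a i) = 1 ⊗ₜ[B] x := by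
    intro P
    have : P.asIdeal.IsMaximal := IsArtinianRing.isMaximal_of_isPrime _
    letI := Ideal.Quotient.field P.asIdeal
    obtain ⟨hf, hle⟩ := h P.asIdeal P.2
    obtain ⟨v, hv⟩ := exists_spanning hle
    choose a ha using fun i => TensorProduct.mk_surjective B A (B ⧸ P.asIdeal)
      Ideal.Quotient.mk_surjective (v i)
    refine ⟨a, fun x => ?_⟩
    obtain ⟨c, hc⟩ := hv (1 ⊗ₜ[B] x)
    choose d hd using fun i => Ideal.Quotient.mk_surjective (c i)
    refine ⟨d, ?_⟩
    rw [tmul_sum, ← hc]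
    refine Finset.sum_congr rfl fun i _ => ?_
    rw [TensorProduct.tmul_smul, ← ha i, ← hd i, TensorProduct.mk_apply, ← IsScalarTower.algebraMap_smul (B ⧸ P.asIdeal) (d i)]
    rfl
  choose a ha using hlift
  choose e he using fun Q : PrimeSpectrum B => Ideal.exists_forall_sub_mem_ideal
    (I := fun P : PrimeSpectrum B => P.asIdeal)
    (fun P P' hPP' => Ideal.isCoprime_iff_sup_eq.2
      (Ideal.IsMaximal.coprime_of_ne (IsArtinianRing.isMaximal_of_isPrime _)
        (IsArtinianRing.isMaximal_of_isPrime _) fun hh => hPP' (PrimeSpectrum.ext hh)))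
    (fun P => if P = Q then 1 else 0)
  let g : Fin n → A := fun i => ∑ Q, e Q • a Q i
  have hg : ∀ (P : PrimeSpectrum B) (i : Fin n),
      (1 : B ⧸ P.asIdeal) ⊗ₜ[B] g i = 1 ⊗ₜ[B] a P i := by
    intro P i
    simp only [g, tmul_sum]
    rw [Finset.sum_eq_single P]
    · have h1 : (Ideal.Quotient.mk P.asIdeal) (e P) = 1 := by
        have := he P P
        rw [if_pos rfl, ← Ideal.Quotient.eq, map_one] at this
        exact this
      rw [TensorProduct.tmul_smul, ← IsScalarTower.algebraMap_smul (B ⧸ P.asIdeal) (e P),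
        Ideal.Quotient.algebraMap_eq, h1, one_smul]
    · intro Q _ hQ
      have h1 : (Ideal.Quotient.mk P.asIdeal) (e Q) = 0 := by
        have := he Q P
        rw [if_neg (fun hh => hQ hh.symm), sub_zero] at this
        exact Ideal.Quotient.eq_zero_iff_mem.2 this
      rw [TensorProduct.tmul_smul, ← IsScalarTower.algebraMap_smul (B ⧸ P.asIdeal) (e Q),
        Ideal.Quotient.algebraMap_eq, h1, zero_smul]
    · simp
  let Φ : (Fin n → B) →ₗ[B] A := Fintype.linearCombination B g
  have hP : ∀ P : PrimeSpectrum B, ⊤ ≤ LinearMap.range Φ ⊔ P.asIdeal • (⊤ : Submodule B A) := by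
    intro P x _
    obtain ⟨c, hc⟩ := ha P x
    refine Submodule.mem_sup.2 ⟨Φ c, ⟨c, rfl⟩, x - Φ c, ?_, add_sub_cancel _ _⟩
    rw [← Submodule.Quotient.mk_eq_zero]
    have h0 : (1 : B ⧸ P.asIdeal) ⊗ₜ[B] (x - Φ c) = 0 := by
      rw [tmul_sub, sub_eq_zero, ← hc, Fintype.linearCombination_apply, tmul_sum, tmul_sum]
      exact Finset.sum_congr rfl fun i _ => by
        rw [TensorProduct.tmul_smul, TensorProduct.tmul_smul, hg]
    have h1 := congrArg (TensorProduct.quotTensorEquivQuotSMul A P.asIdeal) h0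
    rw [map_zero, ← map_one (Ideal.Quotient.mk P.asIdeal)] at h1
    simpa using h1
  have hmul : ∀ I J : Ideal B, ⊤ ≤ LinearMap.range Φ ⊔ I • (⊤ : Submodule B A) →
      ⊤ ≤ LinearMap.range Φ ⊔ J • (⊤ : Submodule B A) →
      ⊤ ≤ LinearMap.range Φ ⊔ (I * J) • (⊤ : Submodule B A) := by
    intro I J hI hJ
    refine hI.trans (sup_le le_sup_left ?_)
    refine (Submodule.smul_mono le_rfl hJ).trans ?_
    rw [Submodule.smul_sup, ← Submodule.smul_assoc]
    exact sup_le (le_sup_of_le_left Submodule.smul_le_right) le_sup_right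
  have hone : ⊤ ≤ LinearMap.range Φ ⊔ (1 : Ideal B) • (⊤ : Submodule B A) := by
    rw [Ideal.one_eq_top, Submodule.top_smul]; exact le_sup_right
  have hprod : ∀ s : Finset (PrimeSpectrum B),
      ⊤ ≤ LinearMap.range Φ ⊔ (∏ P ∈ s, P.asIdeal) • (⊤ : Submodule B A) := by
    intro s
    induction s using Finset.induction_on with
    | empty => simpa using hone
    | insert P s hPs ih =>
      rw [Finset.prod_insert hPs]
      exact hmul _ _ (hP P) ih
  have hpow : ∀ k : ℕ,
      ⊤ ≤ LinearMap.range Φ ⊔ ((∏ P : PrimeSpectrum B, P.asIdeal) ^ k) • (⊤ : Submodule B A) := by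
    intro k
    induction k with
    | zero => simpa using hone
    | succ k ih =>
      rw [pow_succ]
      exact hmul _ _ ih (hprod _)
  have hsurj : Function.Surjective Φ := by
    obtain ⟨k, hk⟩ := IsArtinianRing.isNilpotent_nilradical (R := B)
    have hle : (∏ P : PrimeSpectrum B, P.asIdeal) ≤ nilradical B := by
      rw [nilradical_eq_sInf]
      refine le_sInf fun J hJ => ?_
      exact (Ideal.prod_le_inf).trans (Finset.inf_le (Finset.mem_univ (⟨J, hJ⟩ : PrimeSpectrum B)))
    have hk' : (∏ P : PrimeSpectrum B, P.asIdeal) ^ k = ⊥ :=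
      le_bot_iff.1 ((Ideal.pow_right_mono hle k).trans hk.le)
    have := hpow k
    rw [hk', Submodule.bot_smul, sup_bot_eq] at this
    exact LinearMap.range_eq_top.1 (top_le_iff.1 this)
  refine ⟨Module.Finite.of_surjective (Φ.restrictScalars K) hsurj, ?_⟩
  refine (LinearMap.finrank_le_finrank_of_surjective (f := Φ.restrictScalars K) hsurj).trans
    (le_of_eq ?_)
  rw [Module.finrank_pi_fintype, Finset.sum_const, Finset.card_univ, Fintype.card_fin, smul_eq_mul]

variable {K : Type u} [Field K] {T T' : Scheme.{u}} {n m : ℕ}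

theorem finite_discrete_of_fibres (q : T' ⟶ T) [Finite T] [DiscreteTopology T]
    (hq : BddFib.FibreDegLE q n) : Finite T' ∧ DiscreteTopology T' := by
  have hfib : ∀ b : T, Finite (q ⁻¹' {b}) ∧ DiscreteTopology (q ⁻¹' {b}) := fun b => by
    obtain ⟨_, _⟩ := finite_discrete (K := T.residueField b) (hq b)
    exact ⟨.of_equiv _ (q.fiberHomeo b).toEquiv, (q.fiberHomeo b).discreteTopology⟩
  constructor
  · have : ∀ b, Finite {x // q x = b} := fun b => (hfib b).1
    exact .of_equiv _ (Equiv.sigmaFiberEquiv (q : T' → T))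
  · refine discreteTopology_iff_isOpen_singleton.2 fun x => ?_
    have := (hfib (q x)).2
    have hopen : IsOpen (q ⁻¹' {q x}) := (isOpen_discrete _).preimage q.continuous
    simpa using hopen.isOpenMap_subtype_val _
      (isOpen_discrete ({⟨x, rfl⟩} : Set (q ⁻¹' {q x})))

theorem finiteOfDegLE_comp (q : T' ⟶ T) (hq : BddFib.FibreDegLE q n) (p : T ⟶ Spec (.of K))
    (hp : BddFib.FiniteOfDegLE (.of K) p m) :
    BddFib.FiniteOfDegLE (.of K) (q ≫ p) (n * m) := by
  obtain ⟨_, _⟩ := finite_discrete hp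
  obtain ⟨_, _⟩ := finite_discrete_of_fibres q hq
  obtain ⟨_, hfin, hle⟩ := hp
  letI : Algebra K Γ(T, ⊤) := BddFib.secAlgebra (.of K) p
  letI : Algebra K Γ(T', ⊤) := BddFib.secAlgebra (.of K) (q ≫ p)
  letI : Algebra Γ(T, ⊤) Γ(T', ⊤) := q.appTop.hom.toAlgebra
  have : IsScalarTower K Γ(T, ⊤) Γ(T', ⊤) := IsScalarTower.of_algebraMap_eq fun _ => rfl
  have : Module.Finite K Γ(T, ⊤) := hfin
  obtain ⟨h1, h2⟩ := finrank_le_mul (K := K) (B := Γ(T, ⊤)) (A := Γ(T', ⊤)) n fun P hP => by
    have : IsArtinianRing Γ(T, ⊤) := IsArtinianRing.of_finite K _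
    have : P.IsMaximal := IsArtinianRing.isMaximal_of_isPrime P
    letI := Ideal.Quotient.field P
    let g : Spec (.of (Γ(T, ⊤) ⧸ P)) ⟶ T :=
      Spec.map (CommRingCat.ofHom (algebraMap Γ(T, ⊤) (Γ(T, ⊤) ⧸ P))) ≫ T.isoSpec.inv
    have sq : IsPullback (pullback.snd q g) (pullback.fst q g ≫ T'.isoSpec.hom)
        (Spec.map (CommRingCat.ofHom (algebraMap Γ(T, ⊤) (Γ(T, ⊤) ⧸ P))))
        (Spec.map (CommRingCat.ofHom (algebraMap Γ(T, ⊤) Γ(T', ⊤)))) :=
      IsPullback.of_iso (IsPullback.of_hasPullback q g).flip (Iso.refl _) (Iso.refl _) T'.isoSpec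
        T.isoSpec (by simp) (by simp) (by simp [g])
        (by exact (Scheme.isoSpec_hom_naturality q).symm)
    have he : (sq.isoPullback ≪≫ pullbackSpecIso _ _ _).hom ≫
        Spec.map (CommRingCat.ofHom (algebraMap (Γ(T, ⊤) ⧸ P) _)) = pullback.snd q g := by
      rw [Iso.trans_hom, Category.assoc, pullbackSpecIso_hom_fst', IsPullback.isoPullback_hom_fst]
    exact (iff_of_iso _ _ he).1 (of_pullback hq _ g)
  exact ⟨inferInstance, h1, h2.trans (Nat.mul_le_mul_left n hle)⟩

theorem fibreDegLE_comp {X Y Z : Scheme.{u}} (f : X ⟶ Y) (g : Y ⟶ Z)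
    (hf : BddFib.FibreDegLE f n) (hg : BddFib.FibreDegLE g m) :
    BddFib.FibreDegLE (f ≫ g) (n * m) := fun z => by
  obtain ⟨q, sq, hq⟩ := exists_fiber_comp f g z
  exact hq ▸ finiteOfDegLE_comp (K := Z.residueField z) q (fibreDegLE_baseChange sq hf) _ (hg z)

end BddFibLib
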