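import Groth.Agent.BddFibLib.Fibre
import Mathlib.AlgebraicGeometry.Morphisms.Etale
import Mathlib.AlgebraicGeometry.Morphisms.QuasiFinite
import Mathlib.RingTheory.Etale.Field
import Mathlib.FieldTheory.IsAlgClosed.AlgebraicClosure

/-!
# Étale morphisms with bounded geometric fibres
-/

set_option autoImplicit false
set_option backward.isDefEq.respectTransparency false
set_option linter.style.haveILetI false

universe u

open CategoryTheory CategoryTheory.Limits AlgebraicGeometry TensorProduct

namespace BddFibLib

theorem finrank_le_card_of_isAlgClosed {L A : Type u} [Field L] [IsAlgClosed L] [CommRing A]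
    [Algebra L A] [Algebra.Etale L A] :
    Module.Finite L A ∧ Module.finrank L A ≤ Nat.card (PrimeSpectrum A) := by
  obtain ⟨I, _, Ai, _, _, e, hAi⟩ := (Algebra.Etale.iff_exists_algEquiv_prod L A).1 inferInstance
  have := Fintype.ofFinite I
  have : ∀ i, Module.Finite L (Ai i) := fun i => (hAi i).1
  have hfin : Module.Finite L A := .equiv e.symm.toLinearEquiv
  refine ⟨hfin, ?_⟩
  have h1 : ∀ i, Module.finrank L (Ai i) = 1 := fun i => by
    let e' : L ≃ₐ[L] Ai i := AlgEquiv.ofBijective (Algebra.ofId L (Ai i))
      ⟨(algebraMap L (Ai i)).injective,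
        IsAlgClosed.algebraMap_bijective_of_isIntegral.2⟩
    rw [← e'.toLinearEquiv.finrank_eq, Module.finrank_self]
  rw [e.toLinearEquiv.finrank_eq, Module.finrank_pi_fintype]
  simp only [h1, Finset.sum_const, Finset.card_univ, smul_eq_mul, mul_one, ← Nat.card_eq_fintype_card]
  have : IsArtinianRing A := IsArtinianRing.of_finite L A
  let π (i : I) : A →+* Ai i := (Pi.evalRingHom Ai i).comp e.toAlgHom.toRingHom
  refine Nat.card_le_card_of_injective (fun i => (⟨RingHom.ker (π i), RingHom.ker_isPrime _⟩ : PrimeSpectrum A))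
    fun i j hij => ?_
  classical
  by_contra hne
  have h : RingHom.ker (π i) = RingHom.ker (π j) := congrArg PrimeSpectrum.asIdeal hij
  have hm : e.symm (Pi.single i 1) ∈ RingHom.ker (π j) := by
    simp [π, RingHom.mem_ker, Pi.single_eq_of_ne' hne]
  rw [← h] at hm
  simp [π, RingHom.mem_ker] at hm

variable {X Y : Scheme.{u}}

theorem fibreDegLE_of_etale (f : X ⟶ Y) [Etale f] (n : ℕ)
    (h : ∀ (k : Type u) [Field k] (g : Spec (CommRingCat.of k) ⟶ Y),
      Finite ↥(pullback f g) ∧ Nat.card ↥(pullback f g) ≤ n) : BddFib.FibreDegLE f n := by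
  refine fibreDegLE_of_pullback fun y => ?_
  let K := Y.residueField y
  let L := AlgebraicClosure K
  let a : Spec (.of L) ⟶ Spec (.of K) := Spec.map (CommRingCat.ofHom (algebraMap K L))
  let p := pullback.snd f (Y.fromSpecResidueField y)
  have : Etale p := MorphismProperty.pullback_snd _ _ inferInstance
  have : Finite ↥(pullback f (Y.fromSpecResidueField y)) := (h K _).1
  have : LocallyQuasiFinite p := .of_finite_preimage_singleton p fun _ => Set.toFinite _
  have : IsLocallyArtinian (pullback f (Y.fromSpecResidueField y)) := .of_locallyQuasiFinite p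
  obtain ⟨A, _, _, e, he⟩ := exists_model (K := K) p
  let sqp := IsPullback.of_hasPullback p a
  obtain ⟨e', he'⟩ := exists_baseChange_model (K := K) (L := L) sqp A e he
  have hA : Algebra.Etale K A := by
    have : Etale (Spec.map (CommRingCat.ofHom (algebraMap K A))) :=
      (MorphismProperty.cancel_left_of_respectsIso @Etale e.hom _).1 (he ▸ inferInstance)
    exact RingHom.etale_algebraMap.1 (HasRingHomProperty.Spec_iff.1 this)
  obtain ⟨hfin, hle⟩ := finrank_le_card_of_isAlgClosed (L := L) (A := L ⊗[K] A)
  have hcard : Nat.card (PrimeSpectrum (L ⊗[K] A)) ≤ n := by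
    obtain ⟨_, hn⟩ := h L (a ≫ Y.fromSpecResidueField y)
    refine le_of_eq_of_le ?_ hn
    exact Nat.card_congr
      (e'.symm ≪≫ pullbackLeftPullbackSndIso f (Y.fromSpecResidueField y) a).hom.homeomorph.toEquiv
  exact (iff_of_iso A e he).2 ⟨.of_finite_tensorProduct_of_faithfullyFlat L,
    Module.finrank_baseChange.symm.trans_le (hle.trans hcard)⟩

end BddFibLib
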