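import Groth.Agent.BddFibLib.Basic

/-!
# `FibreDegLE` tested on field valued points
-/

set_option autoImplicit false
set_option backward.isDefEq.respectTransparency false
set_option linter.style.haveILetI false

universe u

open CategoryTheory CategoryTheory.Limits AlgebraicGeometry

namespace BddFibLib

variable {X Y : Scheme.{u}} {f : X ⟶ Y} {n : ℕ}

/-- The base change of `f` to any field valued point is finite of degree at most `n`. -/
theorem of_isPullback (hf : BddFib.FibreDegLE f n) {L : Type u} [Field L] {g : Spec (.of L) ⟶ Y}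
    {P : Scheme.{u}} {q : P ⟶ X} {p : P ⟶ Spec (.of L)} (sq : IsPullback q p f g) :
    BddFib.FiniteOfDegLE (.of L) p n := by
  obtain ⟨⟨y, φ⟩, rfl⟩ := (Y.SpecToEquivOfField L).symm.surjective g
  let _ : Algebra (Y.residueField y) L := φ.hom.toAlgebra
  change IsPullback q p f (Spec.map φ ≫ Y.fromSpecResidueField y) at sq
  have sq' : IsPullback (pullback.lift q (p ≫ Spec.map φ) (by simpa using sq.w)) p
      (f.fiberToSpecResidueField y) (Spec.map φ) :=
    IsPullback.of_right (by rw [pullback.lift_fst]; exact sq) (pullback.lift_snd _ _ _)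
      (IsPullback.of_hasPullback f (Y.fromSpecResidueField y))
  exact baseChange (K := Y.residueField y) sq' (hf y)

theorem of_pullback (hf : BddFib.FibreDegLE f n) (L : Type u) [Field L] (g : Spec (.of L) ⟶ Y) :
    BddFib.FiniteOfDegLE (.of L) (pullback.snd f g) n :=
  of_isPullback hf (IsPullback.of_hasPullback f g)

/-- It suffices to bound the base changes to the residue fields. -/
theorem fibreDegLE_of_pullback
    (h : ∀ y : Y, BddFib.FiniteOfDegLE (.of (Y.residueField y))
      (pullback.snd f (Y.fromSpecResidueField y)) n) : BddFib.FibreDegLE f n :=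
  h

variable {X' Y' : Scheme.{u}} {f' : X' ⟶ Y'} {g : Y' ⟶ Y} {g' : X' ⟶ X}

theorem fibreDegLE_baseChange (sq : IsPullback g' f' f g) (hf : BddFib.FibreDegLE f n) :
    BddFib.FibreDegLE f' n := fun y' =>
  of_isPullback hf (L := Y'.residueField y')
    ((IsPullback.of_hasPullback f' (Y'.fromSpecResidueField y')).paste_horiz sq)

theorem fibreDegLE_descend (sq : IsPullback g' f' f g) [Surjective g]
    (hf : BddFib.FibreDegLE f' n) : BddFib.FibreDegLE f n := by
  intro y
  obtain ⟨y', rfl⟩ := g.surjective y
  let _ : Algebra (Y.residueField (g y')) (Y'.residueField y') := (g.residueFieldMap y').hom.toAlgebra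
  exact descend (K := Y.residueField (g y')) (L := Y'.residueField y')
    (isPullback_fiberToSpecResidueField_of_isPullback sq y') (hf y')

theorem fibreDegLE_mono {m : ℕ} (hf : BddFib.FibreDegLE f n) (hnm : n ≤ m) :
    BddFib.FibreDegLE f m :=
  fun y => mono (K := Y.residueField y) (hf y) hnm

end BddFibLib
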