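import Groth.Agent.BddFibLib.Comp
import Mathlib.AlgebraicGeometry.Morphisms.QuasiFinite
import Mathlib.RingTheory.ZariskisMainTheorem

/-!
# Quasi-compact locally quasi-finite morphisms have universally bounded fibres
-/

set_option autoImplicit false
set_option backward.isDefEq.respectTransparency false
set_option linter.style.haveILetI false

universe u

open CategoryTheory CategoryTheory.Limits AlgebraicGeometry TensorProduct

namespace BddFibLib

variable {X Y : Scheme.{u}}

theorem exists_bound_finite (R S : Type u) [CommRing R] [CommRing S] [Algebra R S] [Module.Finite R S] :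
    ∃ N, BddFib.FibreDegLE (Spec.map (CommRingCat.ofHom (algebraMap R S))) N := by
  obtain ⟨N, l, hl⟩ := Module.Finite.exists_fin' R S
  refine ⟨N, fibreDegLE_of_pullback fun y => ?_⟩
  obtain ⟨ψ, hψ⟩ := Spec.map_surjective ((Spec (.of R)).fromSpecResidueField y)
  let L := (Spec (.of R)).residueField y
  letI : Algebra R L := ψ.hom.toAlgebra
  let sq := (IsPullback.of_hasPullback (Spec.map (CommRingCat.ofHom (algebraMap R S)))
    ((Spec (.of R)).fromSpecResidueField y)).flip
  have sq' : IsPullback (pullback.snd _ _) (pullback.fst _ _)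
      (Spec.map (CommRingCat.ofHom (algebraMap R L))) (Spec.map (CommRingCat.ofHom (algebraMap R S))) :=
    IsPullback.of_iso sq (Iso.refl _) (Iso.refl _) (Iso.refl _) (Iso.refl _) (by simp) (by simp)
      (by simp [← hψ]; rfl) (by simp)
  have he : (sq'.isoPullback ≪≫ pullbackSpecIso R L S).hom ≫
      Spec.map (CommRingCat.ofHom (algebraMap L (L ⊗[R] S))) = pullback.snd _ _ := by
    rw [Iso.trans_hom, Category.assoc, pullbackSpecIso_hom_fst', IsPullback.isoPullback_hom_fst]
  refine (iff_of_iso (L ⊗[R] S) _ he).2 ⟨inferInstance, ?_⟩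
  refine (LinearMap.finrank_le_finrank_of_surjective (f := l.baseChange L)
    (l.lTensor_surjective _ hl)).trans_eq ?_
  rw [(TensorProduct.piScalarRight R L L (Fin N)).finrank_eq, Module.finrank_fin_fun]

theorem exists_bound_at (f : X ⟶ Y) [LocallyQuasiFinite f] [LocallyOfFiniteType f] (x : X) :
    ∃ (W : X.Opens) (N : ℕ), x ∈ W ∧ BddFib.FibreDegLE (W.ι ≫ f) N := by
  obtain ⟨_, ⟨U, hU, rfl⟩, hxU, -⟩ := Y.isBasis_affineOpens.exists_subset_of_mem_open
    (Set.mem_univ (f x)) isOpen_univ
  obtain ⟨_, ⟨V, hV, rfl⟩, hxV, hUV : V ≤ f ⁻¹ᵁ U⟩ :=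
    X.isBasis_affineOpens.exists_subset_of_mem_open hxU (f ⁻¹ᵁ U).2
  have hft : (f.appLE U V hUV).hom.FiniteType := f.finiteType_appLE hU hV hUV
  have hqf : (f.appLE U V hUV).hom.QuasiFinite := LocallyQuasiFinite.quasiFinite_appLE hU hV hUV
  letI : Algebra Γ(Y, U) Γ(X, V) := (f.appLE U V hUV).hom.toAlgebra
  have : Algebra.FiniteType Γ(Y, U) Γ(X, V) := hft
  have : Algebra.QuasiFinite Γ(Y, U) Γ(X, V) := hqf
  obtain ⟨S', hfg, r, hr, hbij⟩ :=
    Algebra.QuasiFiniteAt.exists_fg_and_exists_notMem_and_awayMap_bijective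
      (R := Γ(Y, U)) (hV.primeIdealOf ⟨x, hxV⟩).asIdeal
  have : Module.Finite Γ(Y, U) S' := Module.Finite.iff_fg.2 hfg
  obtain ⟨N, hN⟩ := exists_bound_finite Γ(Y, U) S'
  refine ⟨X.basicOpen (r : Γ(X, V)), 1 * (N * 1), ?_, ?_⟩
  · by_contra hx
    apply hr
    have hpre : hV.primeIdealOf ⟨x, hxV⟩ ∉ PrimeSpectrum.basicOpen (r : Γ(X, V)) := by
      intro h
      apply hx
      rw [← hV.fromSpec_preimage_basicOpen] at h
      have h' : hV.fromSpec (hV.primeIdealOf ⟨x, hxV⟩) ∈ X.basicOpen (r : Γ(X, V)) := h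
      rwa [hV.fromSpec_primeIdealOf ⟨x, hxV⟩] at h'
    simpa using hpre
  · have hW : IsAffineOpen (X.basicOpen (r : Γ(X, V))) := hV.basicOpen _
    have hWU : X.basicOpen (r : Γ(X, V)) ≤ f ⁻¹ᵁ U := (X.basicOpen_le _).trans hUV
    have hloc := hV.isLocalization_basicOpen (r : Γ(X, V))
    let φ₁ : CommRingCat.of (Localization.Away r) ⟶ CommRingCat.of (Localization.Away (r : Γ(X, V))) :=
      CommRingCat.ofHom (Localization.awayMap S'.val.toRingHom r)
    have : IsIso φ₁ := (ConcreteCategory.isIso_iff_bijective φ₁).2 hbij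
    let eW := IsLocalization.algEquiv (Submonoid.powers (r : Γ(X, V)))
      (Localization.Away (r : Γ(X, V))) Γ(X, X.basicOpen (r : Γ(X, V)))
    let φ₂ : CommRingCat.of (Localization.Away (r : Γ(X, V))) ≅
        CommRingCat.of Γ(X, X.basicOpen (r : Γ(X, V))) := eW.toRingEquiv.toCommRingCatIso
    let j : CommRingCat.of S' ⟶ Γ(X, X.basicOpen (r : Γ(X, V))) :=
      CommRingCat.ofHom (algebraMap S' (Localization.Away r)) ≫ φ₁ ≫ φ₂.hom
    have hoi : IsOpenImmersion (Spec.map (CommRingCat.ofHom (algebraMap S' (Localization.Away r)))) :=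
      IsOpenImmersion.of_isLocalization r
    have : IsOpenImmersion (Spec.map j) := by
      simp only [j, Spec.map_comp]; infer_instance
    have hj : CommRingCat.ofHom (algebraMap Γ(Y, U) S') ≫ j = f.appLE U _ hWU := by
      have hfac : f.appLE U _ hWU = f.appLE U V hUV ≫ X.presheaf.map (homOfLE (X.basicOpen_le _)).op :=
        (f.appLE_map hUV _).symm
      rw [hfac]
      ext c
      simp only [j, φ₁, φ₂, CommRingCat.comp_apply]
      have h1 : Localization.awayMap S'.val.toRingHom r
          (algebraMap S' (Localization.Away r) (algebraMap Γ(Y, U) S' c)) =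
          algebraMap Γ(X, V) (Localization.Away (r : Γ(X, V)))
            (algebraMap Γ(Y, U) Γ(X, V) c) := IsLocalization.map_eq _ _
      change eW _ = _
      refine (congrArg eW h1).trans ?_
      rw [eW.commutes]
      rfl
    have hcomp : (X.basicOpen (r : Γ(X, V))).ι ≫ f =
        (hW.isoSpec.hom ≫ Spec.map j) ≫
          (Spec.map (CommRingCat.ofHom (algebraMap Γ(Y, U) S')) ≫ hU.fromSpec) := by
      rw [Category.assoc, ← Spec.map_comp_assoc, hj, IsAffineOpen.SpecMap_appLE_fromSpec _ hU hW,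
        ← hW.isoSpec_inv_ι, Category.assoc, Iso.hom_inv_id_assoc]
    rw [hcomp]
    exact fibreDegLE_comp _ _ (fibreDegLE_immersion _)
      (fibreDegLE_comp _ _ hN (fibreDegLE_immersion _))

theorem fibreDegLE_of_cover (f : X ⟶ Y) {ι : Type u} [Fintype ι] (W : ι → X.Opens)
    (hW : ∀ x, ∃ i, x ∈ W i) (N : ι → ℕ) (h : ∀ i, BddFib.FibreDegLE ((W i).ι ≫ f) (N i)) :
    BddFib.FibreDegLE f (∑ i, N i) := by
  intro y
  let T := f.fiber y
  let V : ι → T.Opens := fun i => f.fiberι y ⁻¹ᵁ W i
  have hV : ∀ i, BddFib.FiniteOfDegLE (.of (Y.residueField y))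
      ((V i).ι ≫ f.fiberToSpecResidueField y) (N i) := fun i =>
    of_isPullback (L := Y.residueField y) (h i)
      ((isPullback_morphismRestrict (f.fiberι y) (W i)).paste_vert
        (IsPullback.of_hasPullback f (Y.fromSpecResidueField y)))
  have hcov : ∀ t : T, ∃ i, t ∈ V i := fun t => hW (f.fiberι y t)
  have hfd := fun i => finite_discrete (hV i)
  have : Finite T := by
    have : ∀ i, Finite (V i) := fun i => (hfd i).1
    refine Finite.of_surjective (fun s : Σ i, V i => (s.2.1 : T)) fun t => ?_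
    obtain ⟨i, hi⟩ := hcov t
    exact ⟨⟨i, t, hi⟩, rfl⟩
  have : DiscreteTopology T := discreteTopology_iff_isOpen_singleton.2 fun t => by
    obtain ⟨i, hi⟩ := hcov t
    have : DiscreteTopology (V i) := (hfd i).2
    simpa using (V i).2.isOpenMap_subtype_val _ (isOpen_discrete ({⟨t, hi⟩} : Set (V i)))
  let K := Y.residueField y
  letI : Algebra K Γ(T, ⊤) := BddFib.secAlgebra (.of K) (f.fiberToSpecResidueField y)
  letI : ∀ i, Algebra K Γ((V i).toScheme, ⊤) := fun i =>
    BddFib.secAlgebra (.of K) ((V i).ι ≫ f.fiberToSpecResidueField y)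
  have : ∀ i, Module.Finite K Γ((V i).toScheme, ⊤) := fun i => (hV i).2.1
  let res (i : ι) : Γ(T, ⊤) →ₐ[K] Γ((V i).toScheme, ⊤) :=
    { (V i).ι.appTop.hom with commutes' := fun _ => rfl }
  let l := LinearMap.pi fun i => (res i).toLinearMap
  have hl : Function.Injective l := by
    intro a b hab
    refine (T.openCoverOfIsOpenCover V (.mk (by ext t; simpa using hcov t))).ext_elem a b fun i => ?_
    exact congrFun hab i
  refine ⟨inferInstance, Module.Finite.of_injective l hl, ?_⟩
  refine (LinearMap.finrank_le_finrank_of_injective hl).trans ?_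
  rw [Module.finrank_pi_fintype]
  exact Finset.sum_le_sum fun i _ => (hV i).2.2

theorem univBounded_of_lqf (f : X ⟶ Y) [LocallyQuasiFinite f] [LocallyOfFiniteType f]
    [CompactSpace X] : BddFib.UnivBounded f := by
  choose W N hxW hN using exists_bound_at f
  obtain ⟨s, hs⟩ := isCompact_univ.elim_finite_subcover (fun x => (W x : Set X))
    (fun x => (W x).2) fun x _ => Set.mem_iUnion.2 ⟨x, hxW x⟩
  refine ⟨_, fibreDegLE_of_cover f (fun i : s => W i) (fun x => ?_) (fun i => N i) fun i => hN i⟩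
  obtain ⟨i, hi, hx⟩ := Set.mem_iUnion₂.1 (hs (Set.mem_univ x))
  exact ⟨⟨i, hi⟩, hx⟩

end BddFibLib
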