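import Groth.Agent.BddFibLib.Fibre
import Mathlib.AlgebraicGeometry.Morphisms.ClosedImmersion
import Mathlib.AlgebraicGeometry.Morphisms.FlatRank
import Mathlib.RingTheory.RingHom.FaithfullyFlat

/-!
# Immersions, finite flat morphisms, flat surjective descent
-/

set_option autoImplicit false
set_option backward.isDefEq.respectTransparency false
set_option linter.style.haveILetI false

universe u

open CategoryTheory CategoryTheory.Limits AlgebraicGeometry

namespace BddFibLib

variable {X Y Z : Scheme.{u}}

/-- The fibre of a composite is the base change to the fibre. -/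
theorem exists_fiber_comp (f : X ⟶ Y) (g : Y ⟶ Z) (z : Z) :
    ∃ q : (f ≫ g).fiber z ⟶ g.fiber z, IsPullback ((f ≫ g).fiberι z) q f (g.fiberι z) ∧
      q ≫ g.fiberToSpecResidueField z = (f ≫ g).fiberToSpecResidueField z := by
  let q : pullback (f ≫ g) (Z.fromSpecResidueField z) ⟶ pullback g (Z.fromSpecResidueField z) :=
    pullback.lift (pullback.fst _ _ ≫ f) (pullback.snd _ _)
      (by rw [Category.assoc, pullback.condition])
  refine ⟨q, IsPullback.of_bot ?_ (pullback.lift_fst _ _ _).symm
    (IsPullback.of_hasPullback g (Z.fromSpecResidueField z)), pullback.lift_snd _ _ _⟩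
  rw [show q ≫ pullback.snd g (Z.fromSpecResidueField z) = pullback.snd _ _ from pullback.lift_snd _ _ _]
  exact IsPullback.of_hasPullback (f ≫ g) (Z.fromSpecResidueField z)

variable {K : Type u} [Field K] {T T' : Scheme.{u}} {n : ℕ}

/-- Descent along flat surjective morphisms of `K`-schemes. -/
theorem of_flat_surjective (q : T' ⟶ T) [Flat q] [Surjective q] (p : T ⟶ Spec (.of K))
    (h : BddFib.FiniteOfDegLE (.of K) (q ≫ p) n) : BddFib.FiniteOfDegLE (.of K) p n := by
  obtain ⟨_, _⟩ := finite_discrete h
  obtain ⟨_, _⟩ := finite_discrete_of_flat_surjective q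
  obtain ⟨_, hfin, hle⟩ := h
  letI : Algebra K Γ(T, ⊤) := BddFib.secAlgebra (.of K) p
  letI : Algebra K Γ(T', ⊤) := BddFib.secAlgebra (.of K) (q ≫ p)
  have : Module.Finite K Γ(T', ⊤) := hfin
  have hinj : Function.Injective q.appTop.hom :=
    RingHom.FaithfullyFlat.injective
      (Flat.flat_and_surjective_iff_faithfullyFlat_of_isAffine q |>.1 ⟨inferInstance, inferInstance⟩)
  let l : Γ(T, ⊤) →ₐ[K] Γ(T', ⊤) := { q.appTop.hom with commutes' := fun _ => rfl }
  exact ⟨inferInstance, Module.Finite.of_injective l.toLinearMap hinj,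
    (LinearMap.finrank_le_finrank_of_injective (f := l.toLinearMap) hinj).trans hle⟩

theorem of_isClosedImmersion (p : T ⟶ Spec (.of K)) [IsClosedImmersion p] :
    BddFib.FiniteOfDegLE (.of K) p 1 := by
  obtain ⟨hA, hs⟩ := IsClosedImmersion.isAffine_surjective_of_isAffine p
  letI : Algebra K Γ(T, ⊤) := BddFib.secAlgebra (.of K) p
  have hsurj : Function.Surjective (Algebra.linearMap K Γ(T, ⊤)) :=
    hs.comp (ConcreteCategory.bijective_of_isIso (Scheme.ΓSpecIso (.of K)).inv).2
  exact ⟨hA, Module.Finite.of_surjective _ hsurj,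
    (LinearMap.finrank_le_finrank_of_surjective hsurj).trans_eq (Module.finrank_self K)⟩

theorem fibreDegLE_immersion (f : X ⟶ Y) [IsPreimmersion f] : BddFib.FibreDegLE f 1 := fun y => by
  have : IsPreimmersion (f.fiberToSpecResidueField y) :=
    MorphismProperty.pullback_snd _ _ inferInstance
  have : IsClosedImmersion (f.fiberToSpecResidueField y) :=
    .of_isPreimmersion _ (isClosed_discrete _)
  exact of_isClosedImmersion (K := Y.residueField y) (f.fiberToSpecResidueField y)

theorem fibreDegLE_of_finrank (f : X ⟶ Y) (d : ℕ) [IsFinite f] [Flat f]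
    (hd : ∀ y : Y, f.finrank y = d) : BddFib.FibreDegLE f d := fun y => by
  change BddFib.FiniteOfDegLE (.of (Y.residueField y))
    (pullback.snd f (Y.fromSpecResidueField y)) d
  have : IsFinite (pullback.snd f (Y.fromSpecResidueField y)) :=
    MorphismProperty.pullback_snd _ _ inferInstance
  have : Flat (pullback.snd f (Y.fromSpecResidueField y)) :=
    MorphismProperty.pullback_snd _ _ inferInstance
  have : IsAffine (pullback f (Y.fromSpecResidueField y)) :=
    isAffine_of_isAffineHom (pullback.snd f (Y.fromSpecResidueField y))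
  obtain ⟨A, _, _, e, he⟩ := exists_model (K := Y.residueField y)
    (pullback.snd f (Y.fromSpecResidueField y))
  have hf : IsFinite (Spec.map (CommRingCat.ofHom (algebraMap (Y.residueField y) A))) :=
    (MorphismProperty.cancel_left_of_respectsIso @IsFinite e.hom _).1 (he ▸ inferInstance)
  have : Module.Finite (Y.residueField y) A := RingHom.finite_algebraMap.1 ((IsFinite.SpecMap_iff _).1 hf)
  have : Flat (Spec.map (CommRingCat.ofHom (algebraMap (Y.residueField y) A))) :=
    (MorphismProperty.cancel_left_of_respectsIso @Flat e.hom _).1 (he ▸ inferInstance)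
  refine (iff_of_iso A e he).2 ⟨‹_›, le_of_eq ?_⟩
  have key := congrArg (fun φ => Scheme.Hom.finrank φ (IsLocalRing.closedPoint (Y.residueField y))) he
  try dsimp only at key
  rw [Scheme.Hom.finrank_pullback_snd, hd, Scheme.Hom.finrank_comp_left_of_isIso,
    Scheme.Hom.finrank_SpecMap_algebraMap] at key
  rw [← key, Module.rankAtStalk_eq_finrank_of_free]
  rfl

theorem fibreDegLE_of_flat_surjective (f : X ⟶ Y) (g : Y ⟶ Z) [Flat f] [Surjective f]
    (h : BddFib.FibreDegLE (f ≫ g) n) : BddFib.FibreDegLE g n := fun z => by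
  obtain ⟨q, sq, hq⟩ := exists_fiber_comp f g z
  have : Flat q := MorphismProperty.of_isPullback sq inferInstance
  have : Surjective q := MorphismProperty.of_isPullback sq inferInstance
  exact of_flat_surjective (K := Z.residueField z) q (g.fiberToSpecResidueField z)
    (hq.symm ▸ h z)

end BddFibLib
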