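import Groth.Agent.BddFibLib.Fibre

/-!
# Residue degrees of a scheme finite over a field
-/

set_option autoImplicit false
set_option backward.isDefEq.respectTransparency false
set_option linter.style.haveILetI false

universe u

open CategoryTheory CategoryTheory.Limits AlgebraicGeometry

namespace BddFibLib

theorem Γevaluation_surjective {T : Scheme.{u}} [IsAffine T] [IsArtinianRing Γ(T, ⊤)] (x : T) :
    Function.Surjective (T.Γevaluation x).hom := by
  intro z
  let _ := T.presheaf.algebra_section_stalk (U := ⊤) ⟨x, trivial⟩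
  have hloc := (isAffineOpen_top T).isLocalization_stalk ⟨x, trivial⟩
  obtain ⟨s, rfl⟩ := T.residue_surjective x z
  obtain ⟨⟨a, b, hb⟩, hab⟩ := IsLocalization.surj
    ((isAffineOpen_top T).primeIdealOf ⟨x, trivial⟩).asIdeal.primeCompl s
  have hu : T.Γevaluation x b ≠ 0 :=
    ((IsLocalization.map_units _ (⟨b, hb⟩ :
      ((isAffineOpen_top T).primeIdealOf ⟨x, trivial⟩).asIdeal.primeCompl)).map
        (T.residue x).hom).ne_zero
  have hab' : T.residue x s * T.Γevaluation x b = T.Γevaluation x a :=
    (map_mul (T.residue x).hom _ _).symm.trans (congrArg (T.residue x).hom hab)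
  have hP : (RingHom.ker (T.Γevaluation x).hom).IsPrime := RingHom.ker_isPrime _
  have := IsArtinianRing.isMaximal_of_isPrime (RingHom.ker (T.Γevaluation x).hom)
  obtain ⟨c, i, hi, hci⟩ := this.exists_inv (x := b) (by simpa [RingHom.mem_ker] using hu)
  refine ⟨a * c, ?_⟩
  have h1 := congrArg (T.Γevaluation x).hom hci
  rw [map_add, RingHom.mem_ker.1 hi, add_zero, map_one, map_mul] at h1
  rw [map_mul, ← hab', mul_assoc, mul_comm (T.Γevaluation x b), h1, mul_one]

variable {K : Type u} [Field K] {T : Scheme.{u}} {p : T ⟶ Spec (.of K)} {n : ℕ}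

theorem residueDegree_bound (h : BddFib.FiniteOfDegLE (.of K) p n) :
    Finite T ∧ (∀ x, 1 ≤ p.residueDegree x) ∧ ∑ᶠ x, p.residueDegree x ≤ n := by
  obtain ⟨_, _⟩ := finite_discrete h
  refine ⟨inferInstance, ?_⟩
  obtain ⟨_, hfin, hle⟩ := h
  letI : Algebra K Γ(T, ⊤) := BddFib.secAlgebra (.of K) p
  have : Module.Finite K Γ(T, ⊤) := hfin
  have : IsArtinianRing Γ(T, ⊤) := IsArtinianRing.of_finite K _
  letI : ∀ x : T, Algebra K (T.residueField x) := fun x =>
    ((T.Γevaluation x).hom.comp (algebraMap K Γ(T, ⊤))).toAlgebra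
  let ev (x : T) : Γ(T, ⊤) →ₐ[K] T.residueField x :=
    { (T.Γevaluation x).hom with commutes' := fun _ => rfl }
  have hev : ∀ x, Function.Surjective (ev x) := fun x => Γevaluation_surjective x
  have hfx : ∀ x, Module.Finite K (T.residueField x) := fun x =>
    .of_surjective (ev x).toLinearMap (hev x)
  have hmax : ∀ x : T, (RingHom.ker (T.Γevaluation x).hom).IsMaximal := fun x =>
    RingHom.ker_isMaximal_of_surjective _ (Γevaluation_surjective x)
  have hne : ∀ x y : T, x ≠ y →
      RingHom.ker (T.Γevaluation x).hom ≠ RingHom.ker (T.Γevaluation y).hom := by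
    intro x y hxy hker
    obtain ⟨a, ha, hxa⟩ := (isAffineOpen_top T).exists_basicOpen_le
      (V := ⟨{x}, isOpen_discrete _⟩) ⟨x, rfl⟩ trivial
    have h1 : T.Γevaluation x a ≠ 0 := (T.evaluation_ne_zero_iff_mem_basicOpen (U := ⊤) x trivial a).2 hxa
    have h2 : T.Γevaluation y a = 0 :=
      (T.evaluation_eq_zero_iff_notMem_basicOpen (U := ⊤) y trivial a).2 fun hy => hxy (ha hy).symm
    exact h1 (RingHom.mem_ker.1 (hker.symm ▸ RingHom.mem_ker.2 h2))
  have hsurj : Function.Surjective (LinearMap.pi fun x => (ev x).toLinearMap) := by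
    intro z
    choose a ha using fun x => hev x (z x)
    obtain ⟨r, hr⟩ := Ideal.exists_forall_sub_mem_ideal
      (I := fun x : T => RingHom.ker (T.Γevaluation x).hom)
      (fun x y hxy => Ideal.isCoprime_iff_sup_eq.2 ((hmax x).coprime_of_ne (hmax y) (hne x y hxy))) a
    exact ⟨r, funext fun x => ((RingHom.sub_mem_ker_iff _).1 (hr x)).trans (ha x)⟩
  have hdeg : ∀ x, p.residueDegree x = Module.finrank K (T.residueField x) := by
    intro x
    letI : Algebra ((Spec (.of K)).residueField (p x)) (T.residueField x) :=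
      (p.residueFieldMap x).hom.toAlgebra
    let e : K →+* (Spec (.of K)).residueField (p x) :=
      ((Scheme.ΓSpecIso (.of K)).inv ≫ (Spec (.of K)).Γevaluation (p x)).hom
    have he : Function.Bijective e :=
      ⟨e.injective, (Γevaluation_surjective (p x)).comp
        (ConcreteCategory.bijective_of_isIso (Scheme.ΓSpecIso (.of K)).inv).2⟩
    change Module.finrank ((Spec (.of K)).residueField (p x)) (T.residueField x) = _
    refine Algebra.finrank_eq_of_equiv_equiv (RingEquiv.ofBijective e he).symm (RingEquiv.refl _) ?_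
    ext c
    obtain ⟨d, rfl⟩ := he.2 c
    have hsymm : (RingEquiv.ofBijective e he).symm (e d) = d :=
      (RingEquiv.ofBijective e he).symm_apply_apply d
    simp only [RingHom.coe_comp, Function.comp_apply, RingEquiv.toRingHom_eq_coe,
      RingHom.coe_coe, RingEquiv.refl_apply, hsymm]
    exact (Scheme.Γevaluation_naturality_apply p x _).symm
  constructor
  · intro x
    rw [hdeg]
    exact Module.finrank_pos
  · have := Fintype.ofFinite T
    rw [finsum_eq_sum_of_fintype, Finset.sum_congr rfl fun x _ => hdeg x,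
      ← Module.finrank_pi_fintype]
    exact (LinearMap.finrank_le_finrank_of_surjective hsurj).trans hle

theorem card_le (h : BddFib.FiniteOfDegLE (.of K) p n) : Finite T ∧ Nat.card T ≤ n := by
  obtain ⟨hT, h1, h2⟩ := residueDegree_bound h
  refine ⟨hT, le_trans ?_ h2⟩
  have := Fintype.ofFinite T
  rw [finsum_eq_sum_of_fintype, Nat.card_eq_fintype_card, Fintype.card_eq_sum_ones]
  exact Finset.sum_le_sum fun x _ => h1 x

end BddFibLib
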